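import Mathlib.CategoryTheory.CofilteredSystem
import Mathlib.CategoryTheory.Functor.OfSequence
import Mathlib.Algebra.Category.Grp.Limits
import Mathlib.Algebra.Category.Grp.ForgetCorepresentable
import Mathlib.Algebra.Module.Submodule.Lattice
import Mathlib.Algebra.BigOperators.Intervals
import Mathlib.Tactic.Abel

/-!
# Towers of abelian groups: Mittag-Leffler, stable images, lim and lim¹
-/

set_option autoImplicit false

noncomputable section

universe u

open CategoryTheory Opposite Limits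

namespace Groth.Agent.TowerLib

variable (F : ℕᵒᵖ ⥤ AddCommGrpCat.{u})

/-- The transition map. -/
def tr {i j : ℕ} (h : i ≤ j) : F.obj (op j) →+ F.obj (op i) := (F.map (homOfLE h).op).hom

lemma tr_tr {i j k : ℕ} (hij : i ≤ j) (hjk : j ≤ k) (x : F.obj (op k)) :
    tr F hij (tr F hjk x) = tr F (hij.trans hjk) x := by
  show _ = (F.map (homOfLE (hij.trans hjk)).op).hom x
  rw [show (homOfLE (hij.trans hjk)).op = (homOfLE hjk).op ≫ (homOfLE hij).op from rfl, F.map_comp]
  rfl

lemma tr_self {i : ℕ} (x : F.obj (op i)) : tr F (le_refl i) x = x := by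
  show (F.map (homOfLE (le_refl i)).op).hom x = x
  rw [show (homOfLE (le_refl i)).op = 𝟙 (op i) from rfl, F.map_id]
  rfl

/-- The stable image. -/
def S (i : ℕ) : AddSubgroup (F.obj (op i)) := ⨅ (k : ℕ) (h : i ≤ k), (tr F h).range

lemma mem_S {i : ℕ} {x : F.obj (op i)} : x ∈ S F i ↔ ∀ k (h : i ≤ k), ∃ z, tr F h z = x := by
  simp [S, AddSubgroup.mem_iInf]

lemma isMittagLeffler_iff : (F ⋙ forget AddCommGrpCat).IsMittagLeffler ↔
    ∀ i : ℕ, ∃ (j : ℕ) (h : i ≤ j), ∀ k (hjk : j ≤ k) (z : F.obj (op j)),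
      ∃ w, tr F (h.trans hjk) w = tr F h z := by
  rw [Functor.isMittagLeffler_iff_subset_range_comp]
  constructor
  · intro hF i
    obtain ⟨⟨j⟩, f, hf⟩ := hF (op i)
    refine ⟨j, leOfHom f.unop, fun k hjk z => ?_⟩
    obtain ⟨w, hw⟩ := hf (homOfLE hjk).op ⟨z, rfl⟩
    exact ⟨w, hw⟩
  · intro hF ⟨i⟩
    obtain ⟨j, h, hj⟩ := hF i
    refine ⟨op j, (homOfLE h).op, fun ⟨k⟩ g => ?_⟩
    rintro _ ⟨z, rfl⟩
    obtain ⟨w, hw⟩ := hj k (leOfHom g.unop) z
    exact ⟨w, hw⟩

lemma exists_stable (hF : (F ⋙ forget AddCommGrpCat).IsMittagLeffler) (i : ℕ) :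
    ∃ (j : ℕ) (h : i ≤ j), ∀ z, tr F h z ∈ S F i := by
  obtain ⟨j, h, hj⟩ := (isMittagLeffler_iff F).1 hF i
  refine ⟨j, h, fun z => (mem_S F).2 fun k hk => ?_⟩
  obtain ⟨w, hw⟩ := hj (max j k) (le_max_left _ _) z
  exact ⟨tr F (le_max_right j k) w, by rw [tr_tr, ← hw]⟩

lemma surjOn_S (hF : (F ⋙ forget AddCommGrpCat).IsMittagLeffler) (i : ℕ) :
    ∀ x ∈ S F i, ∃ y ∈ S F (i + 1), tr F (Nat.le_succ i) y = x := by
  intro x hx
  obtain ⟨j, h, hj⟩ := exists_stable F hF (i + 1)
  obtain ⟨z, hz⟩ := (mem_S F).1 hx j ((Nat.le_succ i).trans h)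
  exact ⟨tr F h z, hj z, by rw [tr_tr, hz]⟩

/-- A compatible family. -/
def Compatible (x : ∀ n, F.obj (op n)) : Prop := ∀ n, tr F (Nat.le_succ n) (x (n + 1)) = x n

lemma Compatible.tr_eq {x : ∀ n, F.obj (op n)} (hx : Compatible F x) :
    ∀ {i j : ℕ} (h : i ≤ j), tr F h (x j) = x i := by
  intro i j h
  induction h with
  | refl => exact tr_self F _
  | @step m hm ih => rw [← tr_tr F hm (Nat.le_succ m), hx m, ih]

lemma Compatible.exists_lift {x : ∀ n, F.obj (op n)} (hx : Compatible F x) :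
    ∃ l : (limit F : AddCommGrpCat.{u}), ∀ n, (limit.π F (op n)).hom l = x n := by
  let c : Cone F :=
    { pt := AddCommGrpCat.of (ULift.{u} ℤ)
      π :=
        { app := fun n => AddCommGrpCat.ofHom ((zmultiplesHom _ (x n.unop)).comp AddEquiv.ulift.toAddMonoidHom)
          naturality := fun i j f => AddCommGrpCat.hom_ext (AddMonoidHom.ext fun a => by
            obtain ⟨i⟩ := i; obtain ⟨j⟩ := j
            show a.down • x j = (F.map f).hom (a.down • x i)
            rw [map_zsmul, show (F.map f).hom (x i) = x j from hx.tr_eq F (leOfHom f.unop)]) } }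
  refine ⟨(limit.lift F c).hom ⟨1⟩, fun n => ?_⟩
  have := ConcreteCategory.congr_hom (limit.lift_π c (op n)) (⟨1⟩ : ULift.{u} ℤ)
  exact this.trans (one_zsmul _)

lemma exists_compatible (hF : (F ⋙ forget AddCommGrpCat).IsMittagLeffler) (p : ℕ) (y : F.obj (op p))
    (hy : y ∈ S F p) : ∃ x, Compatible F x ∧ x p = y := by
  choose up hup hup' using surjOn_S F hF
  let z : ∀ m, S F (p + m) := fun m => Nat.rec (motive := fun m => S F (p + m)) ⟨y, hy⟩
    (fun m w => ⟨up (p + m) w.1 w.2, hup (p + m) w.1 w.2⟩) m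
  let x : ∀ n, F.obj (op n) := fun n => tr F (Nat.le_add_left n p) (z n).1
  refine ⟨x, fun n => ?_, ?_⟩
  · show tr F _ (tr F _ (up (p + n) (z n).1 (z n).2)) = tr F _ (z n).1
    conv_rhs => rw [← hup' (p + n) (z n).1 (z n).2]
    rw [tr_tr, tr_tr]
  · have : ∀ m, tr F (Nat.le_add_right p m) (z m).1 = y := fun m => by
      induction m with
      | zero => exact tr_self F _
      | succ m ih =>
        show tr F _ (up (p + m) (z m).1 (z m).2) = y
        rw [← ih]
        conv_rhs => rw [← hup' (p + m) (z m).1 (z m).2]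
        rw [tr_tr]
    exact this p

theorem range_limit_π (hF : (F ⋙ forget AddCommGrpCat).IsMittagLeffler) (p : ℕ) :
    (limit.π F (op p)).hom.range = S F p := by
  refine le_antisymm ?_ fun y hy => ?_
  · rintro _ ⟨l, rfl⟩
    refine (mem_S F).2 fun k hk => ⟨(limit.π F (op k)).hom l, ?_⟩
    exact ConcreteCategory.congr_hom (limit.w F (homOfLE hk).op) l
  · obtain ⟨x, hx, hxp⟩ := exists_compatible F hF p y hy
    obtain ⟨l, hl⟩ := hx.exists_lift F
    exact ⟨l, (hl p).trans hxp⟩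

/-- Vanishing of lim¹ for Mittag-Leffler towers. -/
theorem exists_sub_tr_eq (hF : (F ⋙ forget AddCommGrpCat).IsMittagLeffler) (y : ∀ n, F.obj (op n)) :
    ∃ x : ∀ n, F.obj (op n), ∀ n, x n - tr F (Nat.le_succ n) (x (n + 1)) = y n := by
  classical
  choose j hj hjS using exists_stable F hF
  let u : ∀ n m : ℕ, F.obj (op n) := fun n m =>
    ∑ k ∈ Finset.Ico n m, if h : n ≤ k then tr F h (y k) else 0
  let x' : ∀ n, F.obj (op n) := fun n => u n (j n)
  have hstep : ∀ n m, n + 1 ≤ m → y n + tr F (Nat.le_succ n) (u (n + 1) m) = u n m := fun n m hm => by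
    simp only [u, map_sum]
    rw [Finset.sum_eq_sum_Ico_succ_bot (show n < m from hm), dif_pos le_rfl, tr_self]
    congr 1
    refine Finset.sum_congr rfl fun k hk => ?_
    have hk' := Finset.mem_Ico.1 hk
    rw [dif_pos hk'.1, dif_pos (Nat.le_of_succ_le hk'.1), tr_tr]
  have hstable : ∀ n a b, j n ≤ a → a ≤ b → u n b - u n a ∈ S F n := fun n a b ha hab => by
    simp only [u]
    rw [← Finset.sum_Ico_consecutive _ ((hj n).trans ha) hab, add_sub_cancel_left]
    refine sum_mem fun k hk => ?_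
    have hk' := Finset.mem_Ico.1 hk
    rw [dif_pos (((hj n).trans ha).trans hk'.1)]
    rw [← tr_tr F (hj n) (ha.trans hk'.1)]
    exact hjS n _
  have hr : ∀ n, x' n - tr F (Nat.le_succ n) (x' (n + 1)) - y n ∈ S F n := fun n => by
    have h := hstep n (j (n + 1)) (hj (n + 1))
    rw [show x' n - tr F (Nat.le_succ n) (x' (n + 1)) - y n = u n (j n) - u n (j (n + 1)) by rw [← h]; simp only [x']; abel]
    rcases le_total (j n) (j (n + 1)) with hle | hle
    · rw [← neg_sub]; exact neg_mem (hstable n _ _ le_rfl hle)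
    · have e : u n (j n) - u n (j (n + 1)) = ∑ k ∈ Finset.Ico (j (n + 1)) (j n), if h : n ≤ k then tr F h (y k) else 0 := by
        simp only [u]
        rw [← Finset.sum_Ico_consecutive _ ((Nat.le_succ n).trans (hj (n + 1))) hle, add_sub_cancel_left]
      rw [e]
      refine sum_mem fun k hk => ?_
      have hk' := Finset.mem_Ico.1 hk
      rw [dif_pos (((Nat.le_succ n).trans (hj (n + 1))).trans hk'.1)]
      rw [← tr_tr F (Nat.le_succ n) ((hj (n + 1)).trans hk'.1), ← tr_tr F (hj (n + 1)) hk'.1]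
      refine (mem_S F).2 fun q hq => ?_
      obtain ⟨w, hw⟩ := (mem_S F).1 (hjS (n + 1) (tr F hk'.1 (y k))) (max q (n + 1)) (le_max_right _ _)
      exact ⟨tr F (le_max_left q (n + 1)) w, by rw [← hw, tr_tr, tr_tr]⟩
  choose up hup hup' using surjOn_S F hF
  let z : ∀ n, S F n := fun n => Nat.rec (motive := fun n => S F n) 0
    (fun n w => ⟨up n (w.1 + (x' n - tr F (Nat.le_succ n) (x' (n + 1)) - y n)) (add_mem w.2 (hr n)),
      hup n _ _⟩) n
  refine ⟨fun n => x' n + (z n).1, fun n => ?_⟩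
  rw [map_add]
  show x' n + (z n).1 - (tr F (Nat.le_succ n) (x' (n + 1)) +
    tr F (Nat.le_succ n) (up n ((z n).1 + (x' n - tr F (Nat.le_succ n) (x' (n + 1)) - y n)) (add_mem (z n).2 (hr n)))) = y n
  rw [hup']
  abel

end Groth.Agent.TowerLib
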